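import Groth.Agent.GIT36.IdComp.Translate
import Groth.Agent.GIT36.BCField.Orbit

/-!
Orbits of a group and of its identity component: one family is closed in an invariant open exactly when the other is.
-/

set_option autoImplicit false
set_option backward.isDefEq.respectTransparency.types false
set_option linter.style.haveILetI false
set_option linter.unusedSectionVars false
set_option maxHeartbeats 800000

universe u

open CategoryTheory CategoryTheory.Limits MonoidalCategory CartesianMonoidalCategory MonObj GrpObj AlgebraicGeometry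
open Groth.Agent.GIT36.Proj Groth.Agent.GIT36.FinAction
open Topology (IsConstructible)

noncomputable section

namespace Groth.Agent.GIT36.IdComp

variable {k : Type u} [Field k] {G₀ G X : Over (Spec (CommRingCat.of k))} [GrpObj G₀] [GrpObj G] {i : G₀ ⟶ G}
  [IsMonHom i] {a : AlgGrp.Action G X} {a₀ : AlgGrp.Action G₀ X} (ha₀ : a₀.act = (i ▷ X) ≫ a.act)
  {P : Over (Spec (CommRingCat.of k))}

/-- the orbit of a test point -/
abbrev orb {H : Over (Spec (CommRingCat.of k))} [GrpObj H] (b : AlgGrp.Action H X) (f : P ⟶ X) :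
    Set (X ⊗ P).left := Set.range (GIT.psi b f).left.base

/-- the translate of a test point -/
abbrev mv (b : AlgGrp.Action G X) (g : P ⟶ G) (f : P ⟶ X) : P ⟶ X := lift g f ≫ b.act

theorem mv_mul (g h : P ⟶ G) (f : P ⟶ X) : mv a (g * h) f = mv a g (mv a h f) := AlgGrp79.mul_act' _ _ _ _

theorem mv_one (f : P ⟶ X) : mv a 1 f = f := AlgGrp79.one_act' _ _

include ha₀ in
theorem mv_incl (h : P ⟶ G₀) (f : P ⟶ X) : lift h f ≫ a₀.act = mv a (h ≫ i) f := by
  rw [ha₀, lift_whiskerRight_assoc]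

theorem sct_trans (g : P ⟶ G) (f : P ⟶ X) : sct f ≫ trans a g = sct (mv a g f) := by
  apply CartesianMonoidalCategory.hom_ext
  · simp only [sct, trans, Category.assoc, lift_fst, comp_lift_assoc, lift_snd_assoc, Category.id_comp]
  · simp [sct, trans]

theorem psi_shift {H : Over (Spec (CommRingCat.of k))} [GrpObj H] (b : AlgGrp.Action H X) (h : P ⟶ H) (f : P ⟶ X) :
    orb b (lift h f ≫ b.act) ⊆ orb b f := by
  let L : H ⊗ P ⟶ H ⊗ P := lift (fst H P * (snd H P ≫ h)) (snd H P)
  have e : GIT.psi b (lift h f ≫ b.act) = L ≫ GIT.psi b f := by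
    apply CartesianMonoidalCategory.hom_ext
    · simp only [GIT.psi, L, Category.assoc, lift_fst, lift_whiskerLeft_assoc, AlgGrp79.mul_act']
      rw [show (H ◁ (lift h f ≫ b.act) : H ⊗ P ⟶ _) = lift (fst H P) (snd H P ≫ lift h f ≫ b.act) by ext <;> simp]
      simp only [comp_lift_assoc]
    · simp [GIT.psi, L]
  rintro _ ⟨p, rfl⟩
  exact ⟨L.left p, by rw [e]; rfl⟩

theorem orb_eq_of_mem {H : Over (Spec (CommRingCat.of k))} [GrpObj H] (b : AlgGrp.Action H X) (h : P ⟶ H)
    (f : P ⟶ X) : orb b (lift h f ≫ b.act) = orb b f := by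
  refine Set.Subset.antisymm (psi_shift b h f) ?_
  conv_lhs => rw [show f = lift h⁻¹ (lift h f ≫ b.act) ≫ b.act from (AlgGrp79.inv_act_act b h f).symm]
  exact psi_shift b h⁻¹ _

variable [IsOpenImmersion i.left] [LocallyOfFiniteType G.hom] [QuasiCompact G.hom] [LocallyOfFiniteType G₀.hom]
  [QuasiCompact G₀.hom] [ConnectedSpace G₀.left]
  {Ω : Type u} [Field Ω] [IsAlgClosed Ω] (eP : P.left ≅ Spec (CommRingCat.of Ω))

include ha₀ eP in
theorem trans_orb_subset (g : P ⟶ G) (f : P ⟶ X) : (trans a g).left.base '' orb a₀ f ⊆ orb a₀ (mv a g f) := by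
  obtain ⟨c₀, hc₀⟩ := exists_conj (i := i) eP g
  let L : G₀ ⊗ P ⟶ G₀ ⊗ P := lift c₀ (snd G₀ P)
  have e : GIT.psi a₀ f ≫ trans a g = L ≫ GIT.psi a₀ (mv a g f) := by
    apply CartesianMonoidalCategory.hom_ext
    · simp only [GIT.psi, L, trans, Category.assoc, lift_fst, comp_lift_assoc, lift_snd_assoc,
        lift_whiskerLeft_assoc, ha₀, lift_whiskerRight_assoc, hc₀, conjMap, AlgGrp79.mul_act']
      rw [show (G₀ ◁ f) ≫ (i ▷ X) ≫ a.act = lift (fst G₀ P ≫ i) (snd G₀ P ≫ f) ≫ a.act by
        rw [← Category.assoc]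
        refine congrArg (· ≫ a.act) ?_
        ext <;> simp]
      simp [AlgGrp79.inv_act_act]
    · simp [GIT.psi, L, trans]
  rintro _ ⟨_, ⟨p, rfl⟩, rfl⟩
  refine ⟨L.left p, ?_⟩
  show (L ≫ GIT.psi a₀ (mv a g f)).left p = (GIT.psi a₀ f ≫ trans a g).left p
  rw [e]

include ha₀ eP in
theorem trans_orb (g : P ⟶ G) (f : P ⟶ X) : (trans a g).left.base '' orb a₀ f = orb a₀ (mv a g f) := by
  refine Set.Subset.antisymm (trans_orb_subset ha₀ eP g f) ?_
  rintro p hp
  have h1 := trans_orb_subset ha₀ eP g⁻¹ (mv a g f) ⟨p, hp, rfl⟩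
  rw [← mv_mul, inv_mul_cancel, mv_one] at h1
  refine ⟨_, h1, ?_⟩
  rw [← Scheme.Hom.comp_apply, ← Over.comp_left, trans_comp, mul_inv_cancel, trans_one]
  rfl

include ha₀ eP in
/-- an orbit is the union of the orbits of the identity component -/
theorem orb_eq_iUnion {S : Finset (P ⟶ G)} (hS : ∀ p : (G ⊗ P).left, ∃ g ∈ S, p ∈ cos i g) (f : P ⟶ X) :
    orb a f = ⋃ g ∈ S, orb a₀ (mv a g f) := by
  refine Set.Subset.antisymm ?_ ?_
  · rintro _ ⟨p, rfl⟩
    obtain ⟨g, hg, hp⟩ := hS p
    refine Set.mem_biUnion hg ?_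
    obtain ⟨u₀, hu₀⟩ := exists_factor (openIncl (cos i g) ≫ (fst G P * (snd G P ≫ g)⁻¹)) (by
      rintro _ ⟨q, rfl⟩
      exact (q.2 : _ ∈ cos i g))
    have e : openIncl (cos i g) ≫ GIT.psi a f =
        lift u₀ (openIncl (cos i g) ≫ snd G P) ≫ GIT.psi a₀ (mv a g f) := by
      apply CartesianMonoidalCategory.hom_ext
      · simp only [GIT.psi, Category.assoc, lift_fst, lift_whiskerLeft_assoc, ha₀, lift_whiskerRight_assoc, hu₀,
          mv, comp_lift_assoc]
        rw [← AlgGrp79.mul_act',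
          ← MonObj.comp_mul (openIncl (cos i g)) (fst G P * (snd G P ≫ g)⁻¹) (snd G P ≫ g), inv_mul_cancel_right,
          show G ◁ f = lift (fst G P) (snd G P ≫ f) by ext <;> simp, comp_lift_assoc]
      · simp [GIT.psi]
    refine ⟨(lift u₀ (openIncl (cos i g) ≫ snd G P)).left ⟨p, hp⟩, ?_⟩
    show (lift u₀ (openIncl (cos i g) ≫ snd G P) ≫ GIT.psi a₀ (mv a g f)).left ⟨p, hp⟩ = _
    rw [← e]
    rfl
  · refine Set.iUnion₂_subset fun g _ => ?_
    have : GIT.psi a₀ (mv a g f) = (i ▷ P) ≫ GIT.psi a (mv a g f) := by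
      apply CartesianMonoidalCategory.hom_ext
      · simp only [GIT.psi, Category.assoc, lift_fst, ha₀]
        rw [whisker_exchange_assoc]
      · simp [GIT.psi]
    rintro _ ⟨p, rfl⟩
    refine psi_shift a g f ?_
    exact ⟨(i ▷ P).left p, by rw [this]; rfl⟩

theorem preimage_trans {U : X.left.Opens} (hU : a.act.left ⁻¹ᵁ U = (snd G X).left ⁻¹ᵁ U) (g : P ⟶ G) :
    (trans a g).left.base ⁻¹' ((fst X P).left ⁻¹ᵁ U : Set (X ⊗ P).left) =
      ((fst X P).left ⁻¹ᵁ U : Set (X ⊗ P).left) := by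
  ext p
  show (trans a g ≫ fst X P).left p ∈ U ↔ (fst X P).left p ∈ U
  rw [trans_fst, Over.comp_left, Scheme.Hom.comp_apply]
  have h1 : (gr g : X ⊗ P ⟶ G ⊗ X).left p ∈ a.act.left ⁻¹ᵁ U ↔
      (gr g : X ⊗ P ⟶ G ⊗ X).left p ∈ (snd G X).left ⁻¹ᵁ U := by rw [hU]
  refine h1.trans ?_
  show ((gr g : X ⊗ P ⟶ G ⊗ X) ≫ snd G X).left p ∈ U ↔ _
  rw [gr_snd]

include ha₀ eP in
theorem isOpen_translate {U : X.left.Opens} (hU : a.act.left ⁻¹ᵁ U = (snd G X).left ⁻¹ᵁ U) (g : P ⟶ G) (f : P ⟶ X)
    (h : IsOpen (((fst X P).left ⁻¹ᵁ U : Set (X ⊗ P).left) \ orb a₀ f)) :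
    IsOpen (((fst X P).left ⁻¹ᵁ U : Set (X ⊗ P).left) \ orb a₀ (mv a g f)) := by
  haveI := isIso_trans a g
  haveI : IsIso (trans a g).left := inferInstanceAs (IsIso ((Over.forget _).map (trans a g)))
  have hb := (trans a g).left.homeomorph.isOpenMap _ h
  convert hb using 1
  rw [Set.image_sdiff (trans a g).left.homeomorph.injective]
  refine congrArg₂ (· \ ·) ?_ (trans_orb ha₀ eP g f).symm
  conv_rhs => rw [← preimage_trans hU g]
  exact (Set.image_preimage_eq _ (trans a g).left.homeomorph.surjective).symm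

variable [LocallyOfFiniteType X.hom]

include eP in
theorem isConstructible_orb [QuasiCompact X.hom] (f : P ⟶ X) : IsConstructible (orb a₀ f) := by
  haveI : LocallyOfFiniteType (snd X P).left :=
    MorphismProperty.of_isPullback (P := @LocallyOfFiniteType) (IsPullback.of_hasPullback X.hom P.hom) inferInstance
  haveI : LocallyOfFiniteType (snd G₀ P).left :=
    MorphismProperty.of_isPullback (P := @LocallyOfFiniteType) (IsPullback.of_hasPullback G₀.hom P.hom) inferInstance
  haveI : QuasiCompact (snd G₀ P).left :=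
    MorphismProperty.of_isPullback (P := @QuasiCompact) (IsPullback.of_hasPullback G₀.hom P.hom) inferInstance
  haveI : QuasiCompact (snd X P).left :=
    MorphismProperty.of_isPullback (P := @QuasiCompact) (IsPullback.of_hasPullback X.hom P.hom) inferInstance
  haveI : LocallyOfFiniteType ((snd X P).left ≫ eP.hom) := inferInstance
  haveI : IsLocallyNoetherian (X ⊗ P).left := LocallyOfFiniteType.isLocallyNoetherian ((snd X P).left ≫ eP.hom)
  haveI : QuasiSeparated (snd X P).left := inferInstance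
  haveI : CompactSpace (X ⊗ P).left := by
    haveI := subsingleton eP
    haveI : CompactSpace P.left := Finite.compactSpace
    exact QuasiCompact.compactSpace_of_compactSpace (snd X P).left
  have hψs : (GIT.psi a₀ f).left ≫ (snd X P).left = (snd G₀ P).left := by
    rw [← Over.comp_left, GIT.psi, lift_snd]
  haveI : LocallyOfFiniteType (GIT.psi a₀ f).left := by
    haveI : LocallyOfFiniteType ((GIT.psi a₀ f).left ≫ (snd X P).left) := by rw [hψs]; infer_instance
    exact locallyOfFiniteType_of_comp _ (snd X P).left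
  haveI : QuasiCompact ((GIT.psi a₀ f).left ≫ (snd X P).left) := by rw [hψs]; infer_instance
  haveI : QuasiCompact (GIT.psi a₀ f).left := QuasiCompact.of_comp _ (snd X P).left
  haveI : LocallyOfFinitePresentation (GIT.psi a₀ f).left := inferInstance
  rw [orb, ← Set.image_univ]
  exact Scheme.Hom.isConstructible_image _ Topology.IsConstructible.univ

include eP in
/-- a closed point of an orbit is a translate -/
theorem exists_rational {f : P ⟶ X} {c : (X ⊗ P).left} (hc : IsClosed ({c} : Set (X ⊗ P).left))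
    (hcm : c ∈ orb a₀ f) : ∃ h : P ⟶ G₀, (sct (lift h f ≫ a₀.act)).left (pt₀ eP) = c := by
  haveI := jacobson_prod eP G₀
  obtain ⟨q, hq⟩ := hcm
  obtain ⟨v, hv, hvc⟩ := nonempty_inter_closedPoints (Z := (GIT.psi a₀ f).left.base ⁻¹' {c}) ⟨q, hq⟩
    (hc.preimage (GIT.psi a₀ f).left.continuous).isLocallyClosed
  obtain ⟨h, rfl⟩ := exists_section eP hvc
  refine ⟨h, ?_⟩
  have e : sct h ≫ GIT.psi a₀ f = sct (lift h f ≫ a₀.act) := by
    apply CartesianMonoidalCategory.hom_ext
    · simp only [GIT.psi, sct, Category.assoc, lift_fst, lift_whiskerLeft_assoc, Category.id_comp]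
    · simp [GIT.psi, sct]
  rw [← e, Over.comp_left, Scheme.Hom.comp_apply]
  exact hv

include ha₀ eP in
/-- closed orbits of the group give closed orbits of the identity component -/
theorem isClosed_component [QuasiCompact X.hom] {U : X.left.Opens}
    (hU : a.act.left ⁻¹ᵁ U = (snd G X).left ⁻¹ᵁ U) (f : P ⟶ X) (hfU : f.left (pt₀ eP) ∈ U)
    (hcl : IsOpen (((fst X P).left ⁻¹ᵁ U : Set (X ⊗ P).left) \ orb a f)) :
    IsOpen (((fst X P).left ⁻¹ᵁ U : Set (X ⊗ P).left) \ orb a₀ f) := by
  classical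
  haveI := jacobson_prod eP X
  haveI := subsingleton eP
  haveI : LocallyOfFiniteType (snd X P).left :=
    MorphismProperty.of_isPullback (P := @LocallyOfFiniteType) (IsPullback.of_hasPullback X.hom P.hom) inferInstance
  haveI : QuasiCompact (snd X P).left :=
    MorphismProperty.of_isPullback (P := @QuasiCompact) (IsPullback.of_hasPullback X.hom P.hom) inferInstance
  haveI : LocallyOfFiniteType ((snd X P).left ≫ eP.hom) := inferInstance
  haveI : IsLocallyNoetherian (X ⊗ P).left := LocallyOfFiniteType.isLocallyNoetherian ((snd X P).left ≫ eP.hom)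
  haveI : CompactSpace (X ⊗ P).left := by
    haveI : CompactSpace P.left := Finite.compactSpace
    exact QuasiCompact.compactSpace_of_compactSpace (snd X P).left
  haveI : IsNoetherian (X ⊗ P).left := {}
  obtain ⟨S, hS, hS'⟩ := exists_finite_cosets (i := i) eP
  let O : (X ⊗ P).left.Opens := (fst X P).left ⁻¹ᵁ U
  let C := closure (orb a₀ f)
  suffices h : C ∩ O ⊆ orb a₀ f by
    have : (O : Set (X ⊗ P).left) \ orb a₀ f = (O : Set (X ⊗ P).left) \ C :=
      Set.Subset.antisymm (fun p hp => ⟨hp.1, fun hc => hp.2 (h ⟨hc, hp.1⟩)⟩)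
        (Set.sdiff_subset_sdiff_right subset_closure)
    rw [this]
    exact O.isOpen.sdiff isClosed_closure
  by_contra hne
  obtain ⟨p, hp, hpn⟩ := Set.not_subset.1 hne
  have hD : IsConstructible ((C ∩ O) \ orb a₀ f) := by
    refine IsConstructible.sdiff (IsConstructible.inter ?_ ?_) (isConstructible_orb eP f)
    · exact IsConstructible.of_compl
        ((TopologicalSpace.NoetherianSpace.isCompact _).isConstructible isClosed_closure.isOpen_compl)
    · exact (TopologicalSpace.NoetherianSpace.isCompact _).isConstructible O.isOpen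
  obtain ⟨c, ⟨⟨hcC, hcO⟩, hcn⟩, hcc⟩ := exists_closedPoint_of_isConstructible hD ⟨p, hp, hpn⟩
  -- the point lies in some translate
  have hfR : orb a₀ f ⊆ orb a f := by
    rw [orb_eq_iUnion ha₀ eP hS f]
    intro q hq
    obtain ⟨g₀, hg₀, h, hh⟩ := hS' 1
    refine Set.mem_biUnion hg₀ ?_
    have : inH i g₀ := by
      have h1 : inH i (1 * g₀⁻¹) := ⟨h, hh⟩
      rw [_root_.one_mul] at h1
      simpa using h1.inv
    obtain ⟨h', rfl⟩ := this
    rw [← mv_incl ha₀, orb_eq_of_mem]
    exact hq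
  have hcR : c ∈ orb a f := by
    by_contra hcR
    obtain ⟨w, hw, hw0⟩ := mem_closure_iff.1 hcC _ hcl ⟨hcO, hcR⟩
    exact hw.2 (hfR hw0)
  rw [orb_eq_iUnion ha₀ eP hS f] at hcR
  obtain ⟨u, -, hcu⟩ := Set.mem_iUnion₂.1 hcR
  -- the closure is stable under the identity component
  have hC0 : ∀ g : P ⟶ G, inH i g → (trans a g).left.base '' C ⊆ C := by
    rintro _ ⟨h, rfl⟩
    refine (image_closure_subset_closure_image (trans a (h ≫ i)).left.continuous).trans (closure_mono ?_)
    rw [trans_orb ha₀ eP, ← mv_incl ha₀, orb_eq_of_mem]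
  -- the translated orbit lies in the closure
  have hsub : orb a₀ (mv a u f) ⊆ C := by
    obtain ⟨h, hh⟩ := exists_rational eP hcc hcu
    rw [← orb_eq_of_mem a₀ h]
    set f' := lift h (mv a u f) ≫ a₀.act
    haveI := jacobson_prod eP G₀
    have hpre : IsClosed ((GIT.psi a₀ f').left.base ⁻¹' C) :=
      isClosed_closure.preimage (GIT.psi a₀ f').left.continuous
    rintro _ ⟨q, rfl⟩
    by_contra hq
    obtain ⟨v, hv, hvc⟩ := nonempty_inter_closedPoints (Z := ((GIT.psi a₀ f').left.base ⁻¹' C)ᶜ) ⟨q, hq⟩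
      hpre.isOpen_compl.isLocallyClosed
    obtain ⟨s, rfl⟩ := exists_section eP hvc
    refine hv ?_
    show (GIT.psi a₀ f').left ((sct s).left (pt₀ eP)) ∈ C
    have e : sct s ≫ GIT.psi a₀ f' = sct f' ≫ trans a (s ≫ i) := by
      rw [sct_trans, ← mv_incl ha₀]
      apply CartesianMonoidalCategory.hom_ext
      · simp only [GIT.psi, sct, Category.assoc, lift_fst, lift_whiskerLeft_assoc, Category.id_comp]
      · simp [GIT.psi, sct]
    rw [← Scheme.Hom.comp_apply, ← Over.comp_left, e, Over.comp_left, Scheme.Hom.comp_apply]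
    exact hC0 _ ⟨s, rfl⟩ ⟨_, hh.symm ▸ hcC, rfl⟩
  -- translation by the point fixes the closure
  have htC : ∀ g : P ⟶ G, (trans a g).left.base '' C = closure (orb a₀ (mv a g f)) := fun g => by
    haveI := isIso_trans a g
    haveI : IsIso (trans a g).left := inferInstanceAs (IsIso ((Over.forget _).map (trans a g)))
    rw [← trans_orb ha₀ eP g f]
    exact (trans a g).left.homeomorph.image_closure _
  have hu : (trans a u).left.base '' C ⊆ C := by
    rw [htC]
    exact closure_minimal hsub isClosed_closure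
  have himg : ∀ g g' : P ⟶ G, (trans a (g * g')).left.base '' C =
      (trans a g).left.base '' ((trans a g').left.base '' C) := fun g g' => by
    rw [← trans_comp, Over.comp_left, Scheme.Hom.comp_base, TopCat.coe_comp, Set.image_comp]
  have hpow : ∀ m : ℕ, (trans a (u ^ (m + 1))).left.base '' C ⊆ (trans a u).left.base '' C := by
    intro m
    rw [pow_succ', himg]
    refine Set.image_mono ?_
    induction m with
    | zero => rw [pow_zero, trans_one]; exact (Set.image_id C).le
    | succ m ih =>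
      rw [pow_succ', himg]
      exact (Set.image_mono ih).trans hu
  obtain ⟨m, hm⟩ : ∃ m : ℕ, inH i (u ^ (m + 1)) := by
    choose g₀ hg₀ hgi using fun j : ℕ => hS' (u ^ j)
    obtain ⟨a', b', hab, he⟩ := Finite.exists_ne_map_eq_of_infinite fun j : ℕ => (⟨g₀ j, hg₀ j⟩ : S)
    have he' : g₀ a' = g₀ b' := congrArg Subtype.val he
    rcases Nat.lt_or_gt_of_ne hab with hlt | hlt
    · obtain ⟨d, rfl⟩ := Nat.exists_eq_add_of_lt hlt
      refine ⟨d, ?_⟩
      have := (hgi (a' + d + 1)).mul (hgi a').inv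
      rwa [he', _root_.mul_inv_rev, _root_.inv_inv, _root_.mul_assoc, inv_mul_cancel_left, ← div_eq_mul_inv,
        show a' + d + 1 = (d + 1) + a' by omega, pow_add, mul_div_cancel_right] at this
    · obtain ⟨d, rfl⟩ := Nat.exists_eq_add_of_lt hlt
      refine ⟨d, ?_⟩
      have := (hgi (b' + d + 1)).mul (hgi b').inv
      rwa [he', _root_.mul_inv_rev, _root_.inv_inv, _root_.mul_assoc, inv_mul_cancel_left, ← div_eq_mul_inv,
        show b' + d + 1 = (d + 1) + b' by omega, pow_add, mul_div_cancel_right] at this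
  have hCm : (trans a (u ^ (m + 1))).left.base '' C = C := by
    obtain ⟨h, hh⟩ := hm
    rw [htC, ← hh, ← mv_incl ha₀, orb_eq_of_mem]
  have huC : closure (orb a₀ (mv a u f)) = C := by
    rw [← htC]
    exact Set.Subset.antisymm hu (hCm.symm.le.trans (hpow m))
  -- so the two orbits share their generic point
  obtain ⟨ζ, -, hgen, -⟩ := Regular.exists_generic (G := G₀) (X := P) (pt₀ eP)
  have hgp : ∀ f' : P ⟶ X, closure ({(GIT.psi a₀ f').left ζ} : Set (X ⊗ P).left) = closure (orb a₀ f') := fun f' => by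
    refine Set.Subset.antisymm (closure_mono (Set.singleton_subset_iff.2 ⟨ζ, rfl⟩)) (closure_minimal ?_ isClosed_closure)
    rintro _ ⟨q, rfl⟩
    exact specializes_iff_mem_closure.1 ((hgen q (Subsingleton.elim _ _)).map (GIT.psi a₀ f').left.continuous)
  have heta : (GIT.psi a₀ f).left ζ = (GIT.psi a₀ (mv a u f)).left ζ := by
    refine (inseparable_iff_closure_eq.2 ?_).eq
    rw [hgp, hgp, huC]
  obtain ⟨w, ⟨hw₁, hw₂⟩, hwc⟩ := exists_closedPoint_of_isConstructible
    ((isConstructible_orb eP f).inter (isConstructible_orb eP (mv a u f)))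
    ⟨_, ⟨ζ, rfl⟩, ⟨ζ, heta.symm⟩⟩
  obtain ⟨h₁, e₁⟩ := exists_rational eP hwc hw₁
  obtain ⟨h₂, e₂⟩ := exists_rational eP hwc hw₂
  have hpts : sct (lift h₁ f ≫ a₀.act) = sct (lift h₂ (mv a u f) ≫ a₀.act) := by
    refine Over.OverMorphism.ext ((cancel_epi eP.inv).1 ?_)
    refine ext_of_apply_closedPoint_eq ((snd X P).left ≫ eP.hom) ?_ ?_ ?_
    · simp only [Category.assoc, sct, ← Over.comp_left_assoc, lift_snd, Over.id_left, Category.id_comp,
        Iso.inv_hom_id]
    · simp only [Category.assoc, sct, ← Over.comp_left_assoc, lift_snd, Over.id_left, Category.id_comp,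
        Iso.inv_hom_id]
    · exact e₁.trans e₂.symm
  have hpts' := congrArg (fun s => s ≫ fst X P) hpts
  simp only [sct, lift_fst] at hpts'
  apply hcn
  rwa [← orb_eq_of_mem a₀ h₂, ← hpts', orb_eq_of_mem] at hcu

include ha₀ eP in
/-- closed orbits of the identity component give closed orbits of the group -/
theorem isClosed_group {U : X.left.Opens} (hU : a.act.left ⁻¹ᵁ U = (snd G X).left ⁻¹ᵁ U) (f : P ⟶ X)
    (hcl : IsOpen (((fst X P).left ⁻¹ᵁ U : Set (X ⊗ P).left) \ orb a₀ f)) :
    IsOpen (((fst X P).left ⁻¹ᵁ U : Set (X ⊗ P).left) \ orb a f) := by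
  obtain ⟨S, hS, hS'⟩ := exists_finite_cosets (i := i) eP
  have e : ((fst X P).left ⁻¹ᵁ U : Set (X ⊗ P).left) \ orb a f = ((fst X P).left ⁻¹ᵁ U : Set (X ⊗ P).left) ∩
      ⋂ g ∈ S, ((fst X P).left ⁻¹ᵁ U : Set (X ⊗ P).left) \ orb a₀ (mv a g f) := by
    rw [orb_eq_iUnion ha₀ eP hS f]
    ext p
    simp only [Set.mem_sdiff, Set.mem_iUnion, Set.mem_inter_iff, Set.mem_iInter, not_exists]
    exact ⟨fun h => ⟨h.1, fun g hg => ⟨h.1, h.2 g hg⟩⟩, fun h => ⟨h.1, fun g hg => (h.2 g hg).2⟩⟩
  rw [e]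
  exact ((fst X P).left ⁻¹ᵁ U).isOpen.inter
    (isOpen_biInter_finset fun g _ => isOpen_translate ha₀ eP hU g f hcl)

end Groth.Agent.GIT36.IdComp
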