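import Groth.Agent.GIT36.IdComp.Sum
import Groth.Agent.GIT36.IdComp.Orbit

/-!
Semistable and stable loci for the identity component.
-/

set_option autoImplicit false
set_option backward.isDefEq.respectTransparency.types false
set_option linter.style.haveILetI false
set_option linter.unusedSectionVars false
set_option maxHeartbeats 800000

universe u

open CategoryTheory CategoryTheory.Limits MonoidalCategory CartesianMonoidalCategory MonObj GrpObj AlgebraicGeometry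
open Groth.Agent.GIT36.Proj Groth.Agent.GIT36.BCField

noncomputable section

namespace Groth.Agent.GIT36.IdComp

variable {k : Type u} [Field k] [CharZero k] {G₀ G X : Over (Spec (CommRingCat.of k))} [GrpObj G₀] [GrpObj G]
  [Smooth G.hom] [QuasiCompact G.hom] [LocallyOfFiniteType G₀.hom] [QuasiCompact G₀.hom]
  {i : G₀ ⟶ G} [IsMonHom i] [IsOpenImmersion i.left] [ConnectedSpace G₀.left]
  [LocallyOfFiniteType X.hom] [QuasiCompact X.hom]
  {a : AlgGrp.Action G X} (B : GLinSh.LinBun G a) {a₀ : AlgGrp.Action G₀ X} (ha₀ : a₀.act = (i ▷ X) ≫ a.act)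
  {Φ₀ : AlgGrp.Action G₀ B.V} (hΦ₀ : Φ₀.act = (i ▷ B.V) ≫ B.lift.act)

include hΦ₀ in
theorem isInvFn_of {f : Γ(B.V.left, ⊤)} (hf : GLinSh.IsInvFn B.lift f) : GLinSh.IsInvFn Φ₀ f := by
  unfold GLinSh.IsInvFn at *
  rw [hΦ₀, Over.comp_left, Scheme.Hom.comp_appTop, CommRingCat.comp_apply, hf, ← CommRingCat.comp_apply,
    ← Scheme.Hom.comp_appTop, ← Over.comp_left, whiskerRight_snd]

variable {hπ₀ : Φ₀.act ≫ B.π = (G₀ ◁ B.π) ≫ a₀.act} {hl₀ : GLinSh.IsLinearLift a₀ B.π Φ₀ B.atlas.chart hπ₀}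


include hΦ₀ in
theorem ssLocus_eq : (⟨B.V, B.π, B.atlas, Φ₀, hπ₀, hl₀⟩ : GLinSh.LinBun G₀ a₀).ssLocus = B.ssLocus := by
  ext x
  constructor
  · rintro ⟨n, f, hn, hf, hxf, U, hU, hUa⟩
    let Ω := AlgebraicClosure k
    let P : Over (Spec (CommRingCat.of k)) := Over.mk (Spec.map (CommRingCat.ofHom (algebraMap k Ω)))
    haveI : IsAffine P.left := inferInstanceAs (IsAffine (Spec _))
    obtain ⟨m, e, U', hm, he, hU', hUa', hx', -⟩ := exists_invSection B (P := P) (Iso.refl (Spec (CommRingCat.of Ω)))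
      Φ₀ hΦ₀ hn hf.1 hf.2 hU hUa (hU.ge hxf)
    exact ⟨m, e, hm, he, hU'.le hx', U', hU', hUa'⟩
  · rintro ⟨n, f, hn, hf, hxf, U, hU, hUa⟩
    exact ⟨n, f, hn, ⟨hf.1, isInvFn_of B hΦ₀ hf.2⟩, hxf, U, hU, hUa⟩

include ha₀ hΦ₀ in
theorem sLocus_eq : (⟨B.V, B.π, B.atlas, Φ₀, hπ₀, hl₀⟩ : GLinSh.LinBun G₀ a₀).sLocus = B.sLocus := by
  haveI : LocallyOfFiniteType G.hom := inferInstance
  ext x
  constructor
  · rintro ⟨n, f, hn, hf, hxf, U₀, hU₀, hU₀a, hcl⟩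
    let Ω₀ := AlgebraicClosure k
    let P : Over (Spec (CommRingCat.of k)) := Over.mk (Spec.map (CommRingCat.ofHom (algebraMap k Ω₀)))
    haveI : IsAffine P.left := inferInstanceAs (IsAffine (Spec _))
    obtain ⟨m, e, U, hm, he, hU, hUa, hxU, htr⟩ := exists_invSection B (P := P)
      (Iso.refl (Spec (CommRingCat.of Ω₀))) Φ₀ hΦ₀ hn hf.1 hf.2 hU₀ hU₀a (hU₀.ge hxf)
    refine ⟨m, e, hm, he, hU.le hxU, U, hU, hUa, ?_⟩
    have hinv := Sections.preimage_invariant he hU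
    intro Ω _ _ T eT g hg
    refine (isClosed_in_iff _ _).2 ?_
    let t₀ := pt₀ eT
    obtain ⟨r, hr1, hr2⟩ := htr (g.left t₀) (hg ⟨t₀, rfl⟩)
    obtain ⟨w, hw, -⟩ := Scheme.exists_preimage_of_isPullback (Quot.isPullback_whiskerLeft_left G g) r t₀ hr1
    haveI := jacobson_prod eT G
    obtain ⟨v, hv, hvc⟩ := nonempty_inter_closedPoints
      (Z := (((G ◁ g) ≫ a.act).left ⁻¹ᵁ U₀ : Set (G ⊗ T).left))
      ⟨w, by
        show ((G ◁ g) ≫ a.act).left w ∈ U₀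
        rw [Over.comp_left, Scheme.Hom.comp_apply, hw]
        exact hr2⟩ (((G ◁ g) ≫ a.act).left ⁻¹ᵁ U₀).isOpen.isLocallyClosed
    obtain ⟨h, rfl⟩ := exists_section eT hvc
    let g₁ := mv a h g
    have e₁ : sct h ≫ (G ◁ g) ≫ a.act = g₁ := by simp [g₁, sct, mv]
    have h₁U₀ : g₁.left t₀ ∈ U₀ := by
      rw [← e₁]
      exact hv
    have h₁U : g₁.left t₀ ∈ U := by
      have h2 : (sct h ≫ (G ◁ g)).left t₀ ∈ (snd G X).left ⁻¹ᵁ U := by
        show (sct h ≫ (G ◁ g) ≫ snd G X).left t₀ ∈ U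
        rw [show sct h ≫ (G ◁ g) ≫ snd G X = g by simp [sct]]
        exact hg ⟨t₀, rfl⟩
      rw [← hinv] at h2
      rw [← e₁]
      exact h2
    have hrange : Set.range g₁.left.base ⊆ (U₀ : Set X.left) ∩ U := by
      rintro _ ⟨t, rfl⟩
      rw [eq_pt₀ eT t]
      exact ⟨h₁U₀, h₁U⟩
    have hc₁ := isClosed_in_other (⟨B.V, B.π, B.atlas, Φ₀, hπ₀, hl₀⟩ : GLinSh.LinBun G₀ a₀) hn hf hU₀ hU₀a hm ⟨he.1, isInvFn_of B hΦ₀ he.2⟩ hU hUa eT g₁ hrange
      ((isClosed_in_iff _ _).1 (hcl Ω T eT g₁ fun y hy => (hrange hy).1))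
    have hc₂ := isClosed_group ha₀ eT hinv g₁ hc₁
    rwa [show orb a g₁ = orb a g from orb_eq_of_mem a h g] at hc₂
  · rintro ⟨n, f, hn, hf, hxf, U, hU, hUa, hcl⟩
    refine ⟨n, f, hn, ⟨hf.1, isInvFn_of B hΦ₀ hf.2⟩, hxf, U, hU, hUa, ?_⟩
    intro Ω _ _ T eT g hg
    exact (isClosed_in_iff _ _).2 (isClosed_component ha₀ eT (Sections.preimage_invariant hf hU) g (hg ⟨_, rfl⟩)
      ((isClosed_in_iff _ _).1 (hcl Ω T eT g hg)))

end Groth.Agent.GIT36.IdComp
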