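import Groth.Agent.GIT36.Regular.Main
import Groth.Agent.GIT36.Proj.Restrict

/-!
An open subgroup of a group of finite type: finitely many cosets of points, closedness, normality of the connected one.
-/

set_option autoImplicit false
set_option backward.isDefEq.respectTransparency.types false
set_option linter.style.haveILetI false
set_option linter.unusedSectionVars false
set_option maxHeartbeats 600000

universe u

open CategoryTheory CategoryTheory.Limits MonoidalCategory CartesianMonoidalCategory MonObj GrpObj AlgebraicGeometry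
open Groth.Agent.GIT36.Proj Groth.Agent.GIT36.FinAction

noncomputable section

namespace Groth.Agent.GIT36.IdComp

variable {k : Type u} [Field k] {P : Over (Spec (CommRingCat.of k))}
  {Ω : Type u} [Field Ω] [IsAlgClosed Ω] (eP : P.left ≅ Spec (CommRingCat.of Ω))

/-- the point of a test field -/
def pt₀ : P.left := eP.inv (IsLocalRing.closedPoint Ω)

include eP in
theorem subsingleton : Subsingleton P.left :=
  eP.hom.homeomorph.injective.subsingleton (β := PrimeSpectrum Ω)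

theorem eq_pt₀ (t : P.left) : t = pt₀ eP := (subsingleton eP).elim _ _

/-- the map of a test field to a product -/
abbrev sct {Z : Over (Spec (CommRingCat.of k))} (s : P ⟶ Z) : P ⟶ Z ⊗ P := lift s (𝟙 P)

include eP in
theorem jacobson_prod (Z : Over (Spec (CommRingCat.of k))) [LocallyOfFiniteType Z.hom] :
    JacobsonSpace (Z ⊗ P).left := by
  haveI : LocallyOfFiniteType (snd Z P).left :=
    MorphismProperty.of_isPullback (P := @LocallyOfFiniteType) (IsPullback.of_hasPullback Z.hom P.hom) inferInstance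
  haveI : LocallyOfFiniteType ((snd Z P).left ≫ eP.hom) := inferInstance
  exact LocallyOfFiniteType.jacobsonSpace ((snd Z P).left ≫ eP.hom)

/-- closed points of a product with a test field are rational -/
theorem exists_section {Z : Over (Spec (CommRingCat.of k))} [LocallyOfFiniteType Z.hom] {p : (Z ⊗ P).left}
    (hp : IsClosed ({p} : Set (Z ⊗ P).left)) : ∃ s : P ⟶ Z, (sct s).left (pt₀ eP) = p := by
  haveI : LocallyOfFiniteType (snd Z P).left :=
    MorphismProperty.of_isPullback (P := @LocallyOfFiniteType) (IsPullback.of_hasPullback Z.hom P.hom) inferInstance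
  let hM : (Z ⊗ P).left ⟶ Spec (CommRingCat.of Ω) := (snd Z P).left ≫ eP.hom
  haveI : LocallyOfFiniteType hM := inferInstanceAs (LocallyOfFiniteType ((snd Z P).left ≫ eP.hom))
  obtain ⟨⟨s, hs⟩, hsv⟩ := (pointEquivClosedPoint hM).surjective ⟨p, hp⟩
  have e1 : (eP.hom ≫ s) ≫ (snd Z P).left = 𝟙 _ := by
    rw [← cancel_mono eP.hom]
    simp only [Category.assoc, Category.id_comp]
    rw [show s ≫ (snd Z P).left ≫ eP.hom = 𝟙 _ from hs, Category.comp_id]
  let g' : P ⟶ Z ⊗ P := Over.homMk (eP.hom ≫ s) (by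
    rw [← Over.w (snd Z P), ← Category.assoc, e1, Category.id_comp])
  have hg' : g' ≫ snd Z P = 𝟙 P := Over.OverMorphism.ext e1
  refine ⟨g' ≫ fst Z P, ?_⟩
  have : sct (g' ≫ fst Z P) = g' := by
    apply CartesianMonoidalCategory.hom_ext
    · simp [sct]
    · simp [sct, hg']
  rw [this]
  show s (eP.hom (pt₀ eP)) = p
  rw [Subsingleton.elim (α := PrimeSpectrum Ω) (eP.hom (pt₀ eP)) (IsLocalRing.closedPoint Ω)]
  exact congrArg Subtype.val hsv

variable {G₀ G : Over (Spec (CommRingCat.of k))} [GrpObj G₀] [GrpObj G] (i : G₀ ⟶ G) [IsMonHom i]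

/-- a point in the subgroup -/
def inH (g : P ⟶ G) : Prop := ∃ h : P ⟶ G₀, h ≫ i = g

theorem inH_one : inH (P := P) i 1 := ⟨1, by simp⟩

variable {i}

theorem inH.mul {g g' : P ⟶ G} (h : inH i g) (h' : inH i g') : inH i (g * g') := by
  obtain ⟨a, rfl⟩ := h
  obtain ⟨b, rfl⟩ := h'
  exact ⟨a * b, by rw [MonObj.mul_comp]⟩

theorem inH.inv {g : P ⟶ G} (h : inH i g) : inH i g⁻¹ := by
  obtain ⟨a, rfl⟩ := h
  exact ⟨a⁻¹, by rw [GrpObj.inv_comp]⟩

variable [IsOpenImmersion i.left]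

theorem exists_factor {Z : Over (Spec (CommRingCat.of k))} (u : Z ⟶ G)
    (h : Set.range u.left.base ⊆ Set.range i.left.base) : ∃ u₀ : Z ⟶ G₀, u₀ ≫ i = u :=
  ⟨Over.homMk (IsOpenImmersion.lift i.left u.left h) (by
    rw [← Over.w i, ← Category.assoc, IsOpenImmersion.lift_fac, Over.w u]),
    Over.OverMorphism.ext (IsOpenImmersion.lift_fac _ _ _)⟩

theorem inH_iff (g : P ⟶ G) : inH i g ↔ g.left (pt₀ eP) ∈ Set.range i.left.base := by
  constructor
  · rintro ⟨h, rfl⟩
    exact ⟨h.left (pt₀ eP), rfl⟩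
  · intro h
    exact exists_factor g (by
      rintro _ ⟨t, rfl⟩
      rw [eq_pt₀ eP t]
      exact h)

/-- the open of a coset -/
def cos (i : G₀ ⟶ G) [IsOpenImmersion i.left] (g : P ⟶ G) : (G ⊗ P).left.Opens :=
  (fst G P * (snd G P ≫ g)⁻¹).left ⁻¹ᵁ i.left.opensRange

theorem sct_mem_cos (s g : P ⟶ G) : (sct s).left (pt₀ eP) ∈ cos i g ↔ inH i (s * g⁻¹) := by
  rw [inH_iff eP]
  show (sct s ≫ (fst G P * (snd G P ≫ g)⁻¹)).left (pt₀ eP) ∈ Set.range i.left.base ↔ _
  simp [sct, MonObj.comp_mul, GrpObj.comp_inv]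

variable [LocallyOfFiniteType G.hom] [QuasiCompact G.hom]

include eP in
/-- finitely many cosets cover -/
theorem exists_finite_cosets : ∃ S : Finset (P ⟶ G), (∀ p : (G ⊗ P).left, ∃ g ∈ S, p ∈ cos i g) ∧
    ∀ g : P ⟶ G, ∃ g₀ ∈ S, inH i (g * g₀⁻¹) := by
  haveI := jacobson_prod eP G
  haveI : QuasiCompact (snd G P).left :=
    MorphismProperty.of_isPullback (P := @QuasiCompact) (IsPullback.of_hasPullback G.hom P.hom) inferInstance
  haveI := subsingleton eP
  haveI : CompactSpace (G ⊗ P).left := by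
    haveI : CompactSpace P.left := Finite.compactSpace
    exact QuasiCompact.compactSpace_of_compactSpace (snd G P).left
  have hcov : ∀ p : (G ⊗ P).left, ∃ g : P ⟶ G, p ∈ cos i g := by
    intro p
    by_contra! h
    obtain ⟨c, hc, hcc⟩ := nonempty_inter_closedPoints (Z := closure ({p} : Set (G ⊗ P).left))
      ⟨p, subset_closure rfl⟩ isClosed_closure.isLocallyClosed
    obtain ⟨s, rfl⟩ := exists_section eP hcc
    have hs : (sct s).left (pt₀ eP) ∈ cos i s := by
      rw [sct_mem_cos, mul_inv_cancel]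
      exact inH_one i
    exact h s (((specializes_iff_mem_closure).2 hc).mem_open (cos i s).isOpen hs)
  obtain ⟨S, hS⟩ := isCompact_univ.elim_finite_subcover (fun g : P ⟶ G => (cos i g : Set (G ⊗ P).left))
    (fun g => (cos i g).isOpen) fun p _ => Set.mem_iUnion.2 (hcov p)
  have hS' : ∀ p : (G ⊗ P).left, ∃ g ∈ S, p ∈ cos i g := fun p => by simpa using hS (Set.mem_univ p)
  refine ⟨S, hS', fun g => ?_⟩
  obtain ⟨g₀, hg₀, hmem⟩ := hS' ((sct g).left (pt₀ eP))
  exact ⟨g₀, hg₀, (sct_mem_cos eP g g₀).1 hmem⟩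

theorem cos_le_of_inH {g : P ⟶ G} (hg : inH i g) : cos i g ≤ cos i (1 : P ⟶ G) := by
  intro p hp
  obtain ⟨h, rfl⟩ := hg
  let O : Over (Spec (CommRingCat.of k)) := openObj (cos i (h ≫ i))
  obtain ⟨u₀, hu₀⟩ := exists_factor (openIncl (cos i (h ≫ i)) ≫ (fst G P * (snd G P ≫ h ≫ i)⁻¹)) (by
    rintro _ ⟨q, rfl⟩
    exact (q.2 : _ ∈ cos i (h ≫ i)))
  have e : (u₀ * (openIncl (cos i (h ≫ i)) ≫ snd G P ≫ h)) ≫ i = openIncl (cos i (h ≫ i)) ≫ fst G P := by
    rw [MonObj.mul_comp, hu₀, Category.assoc, Category.assoc, ← MonObj.comp_mul, inv_mul_cancel_right]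
  show (fst G P * (snd G P ≫ 1)⁻¹).left p ∈ Set.range i.left.base
  rw [MonObj.comp_one, inv_one, _root_.mul_one]
  refine ⟨(u₀ * (openIncl (cos i (h ≫ i)) ≫ snd G P ≫ h)).left ⟨p, hp⟩, ?_⟩
  rw [← Scheme.Hom.comp_apply, ← Over.comp_left, e]
  rfl

include eP in
/-- the subgroup is closed -/
theorem isClosed_cos_one : IsClosed (cos i (1 : P ⟶ G) : Set (G ⊗ P).left) := by
  haveI := jacobson_prod eP G
  obtain ⟨S, hS, -⟩ := exists_finite_cosets (i := i) eP
  refine ⟨isOpen_iff_forall_mem_open.2 fun p hp => ?_⟩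
  obtain ⟨g, -, hpg⟩ := hS p
  refine ⟨(cos i g : Set (G ⊗ P).left), fun q hq hq1 => ?_, (cos i g).isOpen, hpg⟩
  obtain ⟨c, ⟨hcg, hc1⟩, hcc⟩ := nonempty_inter_closedPoints
    (Z := (cos i g : Set (G ⊗ P).left) ∩ cos i (1 : P ⟶ G)) ⟨q, hq, hq1⟩
    ((cos i g).isOpen.inter (cos i (1 : P ⟶ G)).isOpen).isLocallyClosed
  obtain ⟨s, rfl⟩ := exists_section eP hcc
  rw [SetLike.mem_coe, sct_mem_cos] at hcg hc1
  rw [inv_one, _root_.mul_one] at hc1
  have hg : inH i g := by
    have := hcg.inv.mul hc1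
    rwa [_root_.mul_inv_rev, _root_.inv_inv, _root_.mul_assoc, inv_mul_cancel, _root_.mul_one] at this
  exact hp (cos_le_of_inH hg hpg)

variable [LocallyOfFiniteType G₀.hom] [QuasiCompact G₀.hom] [ConnectedSpace G₀.left]

/-- conjugation by a point -/
def conjMap (g : P ⟶ G) : G₀ ⊗ P ⟶ G := (snd G₀ P ≫ g) * (fst G₀ P ≫ i) * (snd G₀ P ≫ g)⁻¹

include eP in
/-- conjugation by a point preserves the subgroup -/
theorem exists_conj (g : P ⟶ G) : ∃ c₀ : G₀ ⊗ P ⟶ G₀, c₀ ≫ i = conjMap (i := i) g := by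
  let c : G₀ ⊗ P ⟶ G ⊗ P := lift (conjMap (i := i) g) (snd G₀ P)
  haveI := subsingleton eP
  obtain ⟨ζ, -, hgen, -⟩ := Regular.exists_generic (G := G₀) (X := P) (pt₀ eP)
  have hconn : _root_.IsPreconnected (Set.univ : Set (G₀ ⊗ P).left) := by
    have h1 : closure ({ζ} : Set (G₀ ⊗ P).left) = Set.univ := Set.eq_univ_iff_forall.2 fun p =>
      specializes_iff_mem_closure.1 (hgen p (Subsingleton.elim _ _))
    rw [← h1]
    exact isPreconnected_singleton.closure
  have hc : ∀ s : P ⟶ G₀, sct s ≫ c = sct (g * (s ≫ i) * g⁻¹) := fun s => by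
    apply CartesianMonoidalCategory.hom_ext <;> simp [c, conjMap, sct, MonObj.comp_mul, GrpObj.comp_inv]
  have hsub : Set.univ ⊆ c.left.base ⁻¹' (cos i (1 : P ⟶ G) : Set (G ⊗ P).left) := by
    refine hconn.subset_isClopen ⟨(isClosed_cos_one eP).preimage c.left.continuous,
      (cos i (1 : P ⟶ G)).isOpen.preimage c.left.continuous⟩ ⟨(sct (1 : P ⟶ G₀)).left (pt₀ eP), trivial, ?_⟩
    show (sct (1 : P ⟶ G₀) ≫ c).left (pt₀ eP) ∈ cos i (1 : P ⟶ G)
    rw [hc, sct_mem_cos]
    simp [inH_one]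
  refine exists_factor _ ?_
  rintro _ ⟨p, rfl⟩
  have h1 : (c ≫ (fst G P * (snd G P ≫ 1)⁻¹)).left p ∈ Set.range i.left.base := hsub (Set.mem_univ p)
  simpa [c] using h1

end Groth.Agent.GIT36.IdComp
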