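import Groth.Agent.GIT36.IdComp.Translate
import Groth.Agent.GIT36.SSRed.Act

/-!
Power sums of the translates of a section invariant under an open subgroup.
-/

set_option autoImplicit false
set_option backward.isDefEq.respectTransparency.types false
set_option linter.style.haveILetI false
set_option linter.unusedSectionVars false
set_option maxHeartbeats 1000000

universe u

open CategoryTheory CategoryTheory.Limits MonoidalCategory CartesianMonoidalCategory MonObj GrpObj AlgebraicGeometry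
open scoped TensorProduct
open Groth.Agent.GIT36.Sections Groth.Agent.GIT36.Proj Groth.Agent.GIT36.BCField Groth.Agent.GIT36.Mu

noncomputable section

namespace Groth.Agent.GIT36.IdComp

variable {k : Type u} [Field k]

attribute [local instance] gU

/-- some power sum of elements not all zero is not zero -/
theorem exists_powerSum_ne_zero {R : Type*} [Field R] [CharZero R] {Q : Type*} [Fintype Q] (x : Q → R) {q₀ : Q}
    (h₀ : x q₀ ≠ 0) : ∃ j : ℕ, 1 ≤ j ∧ ∑ q, x q ^ j ≠ 0 := by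
  classical
  by_contra! h
  have hp : ∀ p : Polynomial R, p.coeff 0 = 0 → ∑ q, p.eval (x q) = 0 := fun p hp0 => by
    simp only [Polynomial.eval_eq_sum_range]
    rw [Finset.sum_comm]
    refine Finset.sum_eq_zero fun j _ => ?_
    rw [← Finset.mul_sum]
    rcases Nat.eq_zero_or_pos j with rfl | hj
    · rw [hp0, zero_mul]
    · rw [h j hj, mul_zero]
  let S := (Finset.univ.image x).erase (x q₀)
  let p : Polynomial R := Polynomial.X * ∏ b ∈ S, (Polynomial.X - Polynomial.C b)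
  have h1 := hp p (by simp [p])
  have h2 : ∀ q, x q ≠ x q₀ → p.eval (x q) = 0 := fun q hq => by
    have hq' : x q ∈ S := Finset.mem_erase.2 ⟨hq, Finset.mem_image_of_mem _ (Finset.mem_univ q)⟩
    simp [p, Polynomial.eval_prod, Finset.prod_eq_zero hq']
  have h3 : ∑ q, p.eval (x q) = ((Finset.univ.filter fun q => x q = x q₀).card : R) * p.eval (x q₀) := by
    rw [← Finset.sum_filter_of_ne (p := fun q => x q = x q₀) (fun q _ hq => by
      by_contra hne
      exact hq (h2 q hne)), Finset.sum_congr rfl (fun q hq => by rw [(Finset.mem_filter.1 hq).2]), Finset.sum_const,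
      nsmul_eq_mul]
  rw [h3, mul_eq_zero, Nat.cast_eq_zero, Finset.card_eq_zero] at h1
  rcases h1 with h1 | h1
  · exact Finset.eq_empty_iff_forall_notMem.1 h1 q₀ (Finset.mem_filter.2 ⟨Finset.mem_univ _, rfl⟩)
  · simp [p, Polynomial.eval_prod, h₀, Finset.prod_eq_zero_iff, sub_eq_zero, S] at h1

variable {X : Over (Spec (CommRingCat.of k))} {G : Over (Spec (CommRingCat.of k))} [GrpObj G]
  {a : AlgGrp.Action G X} {B : GLinSh.LinBun G a} {P : Over (Spec (CommRingCat.of k))}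

/-- having weight `n` on `V × P`, in the coordinates of `V` -/
def WtP (B : GLinSh.LinBun G a) (P : Over (Spec (CommRingCat.of k))) (n : ℕ)
    (E : Γ((B.V ⊗ P).left, (fst B.V P).left ⁻¹ᵁ ⊤)) : Prop :=
  ∀ (U : X.left.Opens) (y : Γ(B.V.left, B.π.left ⁻¹ᵁ U)), y ∈ B.atlas.chart U →
    ∃ c : Γ((X ⊗ P).left, (fst X P).left ⁻¹ᵁ U),
      rs ((fst B.V P).left.preimage_mono le_top) E =
        pullU (B.π ▷ P) (le_whisker P B.π le_rfl) c *
          pullU (fst B.V P) (le_refl ((fst B.V P).left ⁻¹ᵁ (B.π.left ⁻¹ᵁ U))) y ^ n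

theorem WtP.zero (n : ℕ) : WtP B P n 0 := fun U y _ => ⟨0, by rw [map_zero, zero_mul, rs_zero]⟩

theorem WtP.add {n : ℕ} {E E' : Γ((B.V ⊗ P).left, (fst B.V P).left ⁻¹ᵁ ⊤)} (h : WtP B P n E) (h' : WtP B P n E') :
    WtP B P n (E + E') := fun U y hy => by
  obtain ⟨c, hc⟩ := h U y hy
  obtain ⟨d, hd⟩ := h' U y hy
  exact ⟨c + d, by rw [rs_add, hc, hd, map_add, add_mul]⟩

theorem WtP.sum {n : ℕ} {J : Type*} (s : Finset J) (E : J → Γ((B.V ⊗ P).left, (fst B.V P).left ⁻¹ᵁ ⊤))
    (h : ∀ j ∈ s, WtP B P n (E j)) : WtP B P n (∑ j ∈ s, E j) := by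
  classical
  induction s using Finset.induction_on with
  | empty => rw [Finset.sum_empty]; exact WtP.zero n
  | insert i s hi ih =>
    rw [Finset.sum_insert hi]
    exact (h i (Finset.mem_insert_self i s)).add (ih fun j hj => h j (Finset.mem_insert_of_mem hj))

theorem WtP.pow {n : ℕ} {E : Γ((B.V ⊗ P).left, (fst B.V P).left ⁻¹ᵁ ⊤)} (h : WtP B P n E) (j : ℕ) :
    WtP B P (j * n) (E ^ j) := fun U y hy => by
  obtain ⟨c, hc⟩ := h U y hy
  exact ⟨c ^ j, by rw [rs_pow, hc, mul_pow, map_pow, ← pow_mul, Nat.mul_comm n j]⟩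

variable [IsAffine P.left]

/-- coordinates of a weight function are weight functions -/
theorem WtP.co {n : ℕ} {κ : Type u} (b : Module.Basis κ k Γ(P.left, ⊤)) (z : Γ(B.V.left, ⊤) ⊗[k] Γ(P.left, ⊤))
    (h : WtP B P n (β B.V P ⊤ z)) (l : κ) : GLinSh.HasWeight B.atlas.chart n (BCField.co b z l) := fun U y hy => by
  haveI := B.atlas.affine
  refine Proj.exists_coef_of_locally (π := B.π.left) (B.atlas.coord U y hy) n _ fun x hx => ?_
  obtain ⟨W, hWa, hxW, hWU⟩ := Sections.exists_affine_le hx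
  obtain ⟨c, hc⟩ := h U y hy
  obtain ⟨d, hd⟩ := (β_bijective (Z := X) P W hWa.isCompact hWa.isQuasiSeparated).2
    (rs ((fst X P).left.preimage_mono hWU) c)
  let O := B.π.left ⁻¹ᵁ W
  let yW : Γ(B.V.left, O) := rs (B.π.left.preimage_mono hWU) y
  let L₁ : Γ(B.V.left, ⊤) →ₐ[k] Γ(B.V.left, O) := pullU (𝟙 B.V) le_top
  let Pπ : Γ(X.left, W) →ₐ[k] Γ(B.V.left, O) := pullU B.π le_rfl
  let L₂ : Γ(X.left, W) →ₗ[k] Γ(B.V.left, O) := (LinearMap.mulRight k (yW ^ n)).comp Pπ.toLinearMap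
  have e0 : ∀ w, L₂.rTensor _ w = Pπ.toLinearMap.rTensor _ w * ((yW ^ n) ⊗ₜ[k] (1 : Γ(P.left, ⊤))) := fun w => by
    induction w with
    | zero => simp
    | tmul s t => simp [L₂]
    | add x y hx hy => simp [add_mul, hx, hy]
  have key : L₁.toLinearMap.rTensor _ z = L₂.rTensor _ d := by
    apply (β_bijective (Z := B.V) P O (hWa.preimage B.π.left).isCompact (hWa.preimage B.π.left).isQuasiSeparated).1
    rw [e0, map_mul, ← β_natural, ← β_natural, hd, β_tmul, map_one, _root_.mul_one]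
    have h1 := congrArg (rs ((fst B.V P).left.preimage_mono (B.π.left.preimage_mono hWU))) hc
    rw [rs_rs, rs_mul, rs_pow] at h1
    refine Eq.trans ?_ (h1.trans (congrArg₂ (· * ·) ?_ ?_))
    · rw [pullU_congr (id_whiskerRight B.V P) _ (show (fst B.V P).left ⁻¹ᵁ O ≤ (fst B.V P).left ⁻¹ᵁ ⊤ from le_top)]
      exact pullU_id _ _
    · simp only [pullU_apply, rs, ← CommRingCat.comp_apply, Scheme.Hom.appLE_map, Scheme.Hom.map_appLE]
      rfl
    · rw [map_pow]
      refine congrArg (· ^ n) ?_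
      simp only [yW, pullU_apply, rs, ← CommRingCat.comp_apply, Scheme.Hom.appLE_map, Scheme.Hom.map_appLE]
      rfl
  have h2 := congrArg (fun w => BCField.co b w l) key
  rw [co_map, co_map] at h2
  refine ⟨W, hWU, hxW, BCField.co b d l, ?_⟩
  refine (pullU_id le_top _).symm.trans (h2.trans ?_)
  show pullU B.π le_rfl (BCField.co b d l) * yW ^ n = _
  rw [pullU_apply, Scheme.Hom.app_eq_appLE]

variable [CharZero k] {G₀ : Over (Spec (CommRingCat.of k))} [GrpObj G₀] {i : G₀ ⟶ G} [IsMonHom i]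
  [IsOpenImmersion i.left] [Smooth G.hom] [QuasiCompact G.hom] [LocallyOfFiniteType X.hom] [QuasiCompact X.hom]
  (B) {Ω : Type u} [Field Ω] [IsAlgClosed Ω] (eP : P.left ≅ Spec (CommRingCat.of Ω))

include eP in
/-- invariant sections from sections invariant under an open subgroup -/
theorem exists_invSection (Φ₀ : AlgGrp.Action G₀ B.V) (hΦ₀ : Φ₀.act = (i ▷ B.V) ≫ B.lift.act) {n : ℕ} (hn : 1 ≤ n)
    {s : Γ(B.V.left, ⊤)} (hsw : GLinSh.HasWeight B.atlas.chart n s) (hsi : GLinSh.IsInvFn Φ₀ s)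
    {U₀ : X.left.Opens} (hU₀ : (U₀ : Set X.left) = GLinSh.nonvanishing B.π s) (hUa : IsAffineOpen U₀)
    {x : X.left} (hx : x ∈ U₀) :
    ∃ (m : ℕ) (e : Γ(B.V.left, ⊤)) (U : X.left.Opens), 1 ≤ m ∧ B.IsInvSection m e ∧
      (U : Set X.left) = GLinSh.nonvanishing B.π e ∧ IsAffineOpen U ∧ x ∈ U ∧
      ∀ y ∈ U, ∃ r : (G ⊗ X).left, (snd G X).left r = y ∧ a.act.left r ∈ U₀ := by
  classical
  haveI := B.atlas.affine
  haveI : LocallyOfFiniteType G.hom := inferInstance
  haveI : CompactSpace X.left := QuasiCompact.compactSpace_of_compactSpace X.hom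
  haveI := quasiCompact_total B
  haveI : CompactSpace B.V.left := QuasiCompact.compactSpace_of_compactSpace B.V.hom
  haveI : IsLocallyNoetherian X.left := LocallyOfFiniteType.isLocallyNoetherian X.hom
  haveI := quasiSeparated_total B
  haveI : QuasiSeparatedSpace B.V.left := quasiSeparatedSpace_of_quasiSeparated B.V.hom
  haveI : IsLocallyNoetherian G.left := LocallyOfFiniteType.isLocallyNoetherian G.hom
  haveI : QuasiSeparatedSpace G.left := inferInstance
  haveI : QuasiSeparated G.hom := inferInstance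
  haveI : CompactSpace (G ⊗ B.V).left := by
    haveI : QuasiCompact (G ⊗ B.V).hom := by
      show QuasiCompact (pullback.fst G.hom B.V.hom ≫ G.hom)
      infer_instance
    exact QuasiCompact.compactSpace_of_compactSpace (G ⊗ B.V).hom
  haveI : QuasiSeparatedSpace (G ⊗ B.V).left := by
    haveI : QuasiSeparated (G ⊗ B.V).hom := by
      show QuasiSeparated (pullback.fst G.hom B.V.hom ≫ G.hom)
      infer_instance
    exact quasiSeparatedSpace_of_quasiSeparated (G ⊗ B.V).hom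
  haveI : AlgebraicGeometry.IsReduced P.left := isReduced_of_isOpenImmersion eP.hom
  haveI : _root_.IsReduced Γ(P.left, ⊤) := IsReduced.component_reduced ⊤
  haveI := subsingleton eP
  let b := Module.Free.chooseBasis k Γ(P.left, ⊤)
  let T : (B.V ⊗ P).left.Opens := (fst B.V P).left ⁻¹ᵁ ⊤
  -- translates of the section
  let sg : (P ⟶ G) → Γ((B.V ⊗ P).left, T) := fun g =>
    pullU (gr g ≫ B.lift.act) (U := ⊤) (U' := T) le_top s
  have hinv : ∀ (g h : P ⟶ G), inH i h → sg (h * g) = sg g := by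
    rintro g _ ⟨h, rfl⟩
    let φ : B.V ⊗ P ⟶ B.V := gr g ≫ B.lift.act
    have e : (gr ((h ≫ i) * g) : B.V ⊗ P ⟶ G ⊗ B.V) ≫ B.lift.act = lift (snd B.V P ≫ h) φ ≫ Φ₀.act := by
      rw [hΦ₀, lift_whiskerRight_assoc, gr, MonObj.comp_mul, AlgGrp79.mul_act', Category.assoc]
      rfl
    have e' : lift (snd B.V P ≫ h) φ ≫ snd G₀ B.V = φ := lift_snd _ _
    have hsi' : pullU Φ₀.act (U := ⊤) (U' := ⊤) le_top s = pullU (snd G₀ B.V) (U := ⊤) (U' := ⊤) le_top s := by
      rw [pullU_apply, pullU_apply]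
      have := hsi
      simp only [GLinSh.IsInvFn, Scheme.Hom.appTop, Scheme.Hom.app_eq_appLE] at this
      exact this
    show pullU _ le_top s = pullU _ le_top s
    rw [pullU_congr e _ le_top, ← pullU_comp (h := Φ₀.act) (g := lift (snd B.V P ≫ h) φ) (U' := ⊤) le_top le_top,
      hsi', pullU_comp (h := snd G₀ B.V) (g := lift (snd B.V P ≫ h) φ) (U' := ⊤) le_top le_top le_top,
      pullU_congr e' _ le_top]
  obtain ⟨S, -, hS⟩ := exists_finite_cosets (i := i) eP
  let rel : Setoid (P ⟶ G) :=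
    { r := fun g g' => inH i (g' * g⁻¹)
      iseqv :=
        ⟨fun g => by rw [mul_inv_cancel]; exact inH_one i, fun {g g'} h => by
          simpa [_root_.mul_inv_rev] using h.inv, fun {g g' g''} h h' => by
          simpa [_root_.mul_assoc] using h'.mul h⟩ }
  haveI : Finite (Quotient rel) := by
    refine Finite.of_surjective (fun g : S => Quotient.mk rel g.1) fun q => ?_
    obtain ⟨g, rfl⟩ := Quotient.exists_rep q
    obtain ⟨g₀, hg₀, h⟩ := hS g
    exact ⟨⟨g₀, hg₀⟩, Quotient.sound (show inH i (g * g₀⁻¹) from h)⟩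
  haveI : Fintype (Quotient rel) := Fintype.ofFinite _
  let f : Quotient rel → Γ((B.V ⊗ P).left, T) := Quotient.lift sg fun g g' (h : inH i (g' * g⁻¹)) => by
    conv_rhs => rw [show g' = (g' * g⁻¹) * g by simp]
    exact (hinv g _ h).symm
  -- weights
  have hwt : ∀ g, WtP B P n (sg g) := fun g U y hy => by
    let U'' : (G ⊗ X).left.Opens := (snd G X).left ⁻¹ᵁ U
    let y'' : Γ((G ⊗ B.V).left, (G ◁ B.π).left ⁻¹ᵁ U'') :=
      (snd G B.V).left.appLE (B.π.left ⁻¹ᵁ U) ((G ◁ B.π).left ⁻¹ᵁ U'')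
        (le_preimage_of_comm (SSRed.isPullback_prod B).w le_rfl) y
    obtain ⟨c, hc⟩ := SSRed.wt_act B hsw U'' y'' ⟨U, y, le_rfl, hy, rfl⟩
    have hO : (fst X P).left ⁻¹ᵁ U ≤ (gr g : X ⊗ P ⟶ G ⊗ X).left ⁻¹ᵁ U'' := fun p hp => by
      show ((gr g : X ⊗ P ⟶ G ⊗ X) ≫ snd G X).left p ∈ U
      rw [gr_snd]
      exact hp
    refine ⟨pullU (gr g) hO c, ?_⟩
    have hO' : (fst B.V P).left ⁻¹ᵁ (B.π.left ⁻¹ᵁ U) ≤ (gr g : B.V ⊗ P ⟶ G ⊗ B.V).left ⁻¹ᵁ ((G ◁ B.π).left ⁻¹ᵁ U'') :=
      fun p hp => by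
        show ((gr g : B.V ⊗ P ⟶ G ⊗ B.V) ≫ (G ◁ B.π) ≫ snd G X).left p ∈ U
        rw [whiskerLeft_snd, reassoc_of% gr_snd]
        exact hp
    have eπ : (gr g : B.V ⊗ P ⟶ G ⊗ B.V) ≫ (G ◁ B.π) = (B.π ▷ P) ≫ gr g := by
      apply CartesianMonoidalCategory.hom_ext <;> simp [gr]
    have h1 := congrArg (pullU (gr g : B.V ⊗ P ⟶ G ⊗ B.V) hO') hc
    rw [map_mul, map_pow] at h1
    refine Eq.trans ?_ (h1.trans (congrArg₂ (· * ·) ?_ ?_))
    · simp only [sg, T, pullU_apply, rs, Over.comp_left, Scheme.Hom.appTop, Scheme.Hom.app_eq_appLE,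
        ← CommRingCat.comp_apply]
      rw [Category.assoc, Scheme.Hom.map_appLE]
      erw [Scheme.Hom.appLE_map, Scheme.Hom.appLE_comp_appLE]
    · have e1 : (fst B.V P).left ⁻¹ᵁ (B.π.left ⁻¹ᵁ U) ≤ ((gr g : B.V ⊗ P ⟶ G ⊗ B.V) ≫ (G ◁ B.π)).left ⁻¹ᵁ U'' := hO'
      have e2 : (fst B.V P).left ⁻¹ᵁ (B.π.left ⁻¹ᵁ U) ≤ ((B.π ▷ P) ≫ gr g).left ⁻¹ᵁ U'' := by rw [← eπ]; exact e1
      rw [show (G ◁ B.π).left.app U'' c = pullU (G ◁ B.π) le_rfl c by rw [pullU_apply, Scheme.Hom.app_eq_appLE],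
        pullU_comp _ _ e1, pullU_congr eπ _ e2]
      exact (pullU_comp _ _ e2 c).symm
    · refine congrArg (· ^ n) ?_
      have e1 : (fst B.V P).left ⁻¹ᵁ (B.π.left ⁻¹ᵁ U) ≤
          ((gr g : B.V ⊗ P ⟶ G ⊗ B.V) ≫ snd G B.V).left ⁻¹ᵁ (B.π.left ⁻¹ᵁ U) := by rw [gr_snd]
      show pullU (gr g : B.V ⊗ P ⟶ G ⊗ B.V) hO' (pullU (snd G B.V) _ y) = _
      rw [pullU_comp _ _ e1, pullU_congr (gr_snd g) _ le_rfl]
  have hfwt : ∀ q, WtP B P n (f q) := fun q => by
    obtain ⟨g, rfl⟩ := Quotient.exists_rep q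
    exact hwt g
  -- affineness of the loci of the translates
  have hD : IsAffineOpen (B.V.left.basicOpen s) := by
    have hle : B.V.left.basicOpen s ≤ B.π.left ⁻¹ᵁ U₀ := fun v hv => by
      show B.π.left v ∈ U₀
      rw [← SetLike.mem_coe, hU₀]
      exact ⟨v, hv, rfl⟩
    have h := (hUa.preimage B.π.left).basicOpen (rs le_top s)
    rwa [rs, Scheme.basicOpen_res, inf_eq_right.2 hle] at h
  have hbo : ∀ g, (B.V ⊗ P).left.basicOpen (sg g) = (gr g ≫ B.lift.act).left ⁻¹ᵁ B.V.left.basicOpen s := fun g => by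
    rw [Scheme.preimage_basicOpen, Scheme.Hom.app_eq_appLE]
    rfl
  have haff : ∀ g, IsAffineOpen ((B.V ⊗ P).left.basicOpen (sg g)) := fun g => by
    haveI := isIso_trans B.lift g
    haveI : IsIso (trans B.lift g).left := inferInstanceAs (IsIso ((Over.forget _).map (trans B.lift g)))
    haveI := isAffineHom_fst (X := B.V) (T := P)
    rw [hbo, ← trans_fst B.lift g, Over.comp_left, Scheme.Hom.comp_preimage]
    exact (hD.preimage (fst B.V P).left).preimage_of_isIso _
  have hbV := β_bijective (Z := B.V) P ⊤ isCompact_univ (IsQuasiSeparated.of_quasiSeparatedSpace _)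
  choose z hz using fun q => hbV.2 (f q)
  let A := Sections.atlasB B
  have hzJ : ∀ q l, BCField.co b (z q) l ∈ (cert A).radical := fun q l => by
    refine co_mem_radical b A (z q) ?_ l
    rw [hz]
    obtain ⟨g, rfl⟩ := Quotient.exists_rep q
    exact haff g
  -- a power sum which does not vanish
  obtain ⟨v, hv, hvx⟩ := hU₀.le hx
  haveI : Surjective P.hom := by
    haveI : Nonempty P.left := ⟨pt₀ eP⟩
    exact ⟨fun x => ⟨Classical.arbitrary _, Subsingleton.elim _ _⟩⟩
  haveI : Surjective (fst B.V P).left := MorphismProperty.pullback_fst (P := @Surjective) _ _ inferInstance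
  obtain ⟨p, hp⟩ := (fst B.V P).left.surjective v
  let ev : Γ((B.V ⊗ P).left, T) →+* (B.V ⊗ P).left.residueField p :=
    ((B.V ⊗ P).left.evaluation T p (show p ∈ T from trivial)).hom
  haveI : CharZero ((B.V ⊗ P).left.residueField p) :=
    charZero_of_injective_ringHom ((ev.comp (cU (B.V ⊗ P) T)).injective)
  have h1 : ev (f (Quotient.mk rel 1)) ≠ 0 := by
    show ((B.V ⊗ P).left.evaluation T p (show p ∈ T from trivial)) (sg 1) ≠ 0
    rw [Scheme.evaluation_ne_zero_iff_mem_basicOpen, hbo, ← trans_fst B.lift, trans_one, Category.id_comp]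
    show (fst B.V P).left p ∈ B.V.left.basicOpen s
    rw [hp]
    exact hv
  obtain ⟨j, hj, hjs⟩ := exists_powerSum_ne_zero (fun q => ev (f q)) h1
  let E : Γ((B.V ⊗ P).left, T) := ∑ q, f q ^ j
  let zE : Γ(B.V.left, ⊤) ⊗[k] Γ(P.left, ⊤) := ∑ q, z q ^ j
  have hzE : β B.V P ⊤ zE = E := by simp only [zE, E, map_sum, map_pow, hz]
  have hpE : p ∈ (B.V ⊗ P).left.basicOpen E := by
    rw [← Scheme.evaluation_ne_zero_iff_mem_basicOpen (B.V ⊗ P).left p (show p ∈ T from trivial)]
    show ev E ≠ 0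
    simpa [E, map_sum, map_pow] using hjs
  -- coordinates
  have hwE : WtP B P (j * n) (β B.V P ⊤ zE) := hzE ▸ WtP.sum _ _ fun q _ => (hfwt q).pow j
  have hJE : ∀ l, BCField.co b zE l ∈ (cert A).radical := by
    let S' := Γ(B.V.left, ⊤) ⧸ (cert A).radical
    let mk : Γ(B.V.left, ⊤) →ₐ[k] S' := Ideal.Quotient.mkₐ k _
    let Q := Algebra.TensorProduct.map mk (AlgHom.id k Γ(P.left, ⊤))
    have hQ : ∀ x, Q x = mk.toLinearMap.rTensor _ x := fun x => by
      induction x with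
      | zero => simp
      | tmul a c => simp [Q]
      | add x y hx hy => simp [hx, hy]
    have h0 : ∀ q, Q (z q) = 0 := fun q => by
      rw [hQ]
      refine co_inj b fun l => ?_
      rw [co_map, map_zero, Finsupp.zero_apply]
      exact Ideal.Quotient.eq_zero_iff_mem.2 (hzJ q l)
    intro l
    refine Ideal.Quotient.eq_zero_iff_mem.1 ?_
    show mk.toLinearMap (BCField.co b zE l) = 0
    have : Q zE = 0 := by
      simp only [zE, map_sum, map_pow, h0]
      exact Finset.sum_eq_zero fun q _ => zero_pow (by omega)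
    rw [← co_map, ← hQ, this, map_zero, Finsupp.zero_apply]
  have hinvE : ∀ l, GLinSh.IsInvFn B.lift (BCField.co b zE l) := by
    let δ : Γ(((G ⊗ B.V) ⊗ P).left, ⊤) :=
      pullU (B.lift.act ▷ P) (U := T) (U' := ⊤) le_top E - pullU (snd G B.V ▷ P) (U := T) (U' := ⊤) le_top E
    have hshift : ∀ g' g : P ⟶ G, pullU (trans B.lift g') (U := T) (U' := T) le_top (sg g) = sg (g * g') := by
      intro g' g
      simp only [sg]
      rw [pullU_comp _ _ le_top]
      refine pullU_congr ?_ _ _ _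
      rw [← trans_fst B.lift g, ← Category.assoc, trans_comp, trans_fst]
    have hδ : δ = 0 := by
      refine eq_zero_of_graphs eP δ fun g' => ?_
      let m : B.V ⊗ P ⟶ (G ⊗ B.V) ⊗ P := lift (gr g') (snd B.V P)
      have ha : m ≫ (B.lift.act ▷ P) = trans B.lift g' := by
        apply CartesianMonoidalCategory.hom_ext <;> simp [m, trans, gr]
      have hb : m ≫ (snd G B.V ▷ P) = 𝟙 _ := by
        apply CartesianMonoidalCategory.hom_ext <;> simp [m, gr]
      show m.left.appTop δ = 0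
      have hm : pullU m (U := ⊤) (U' := ⊤) le_top δ = 0 := by
        simp only [δ, map_sub]
        rw [sub_eq_zero, pullU_comp _ _ le_top, pullU_comp _ _ le_top, pullU_congr ha _ le_top,
          pullU_congr hb _ (show (⊤ : (B.V ⊗ P).left.Opens) ≤ (𝟙 (B.V ⊗ P) : B.V ⊗ P ⟶ B.V ⊗ P).left ⁻¹ᵁ T from le_top)]
        have : pullU (trans B.lift g') (U := T) (U' := T) le_top E = E := by
          simp only [E, map_sum, map_pow]
          let R : Quotient rel → Quotient rel := Quotient.map (fun g => g * g') fun g g₁ (h : inH i (g₁ * g⁻¹)) => by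
            show inH i (g₁ * g' * (g * g')⁻¹)
            simpa [_root_.mul_inv_rev, _root_.mul_assoc] using h
          let L : Quotient rel → Quotient rel := Quotient.map (fun g => g * g'⁻¹) fun g g₁ (h : inH i (g₁ * g⁻¹)) => by
            show inH i (g₁ * g'⁻¹ * (g * g'⁻¹)⁻¹)
            simpa [_root_.mul_inv_rev, _root_.mul_assoc] using h
          let e : Quotient rel ≃ Quotient rel :=
            { toFun := R
              invFun := L
              left_inv := fun q => by obtain ⟨g, rfl⟩ := Quotient.exists_rep q; simp [R, L]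
              right_inv := fun q => by obtain ⟨g, rfl⟩ := Quotient.exists_rep q; simp [R, L] }
          refine Fintype.sum_equiv e _ _ fun q => ?_
          obtain ⟨g, rfl⟩ := Quotient.exists_rep q
          exact congrArg (· ^ j) (hshift g' g)
        exact this.trans ((pullU_id (le_refl T) E).trans (rs_self E)).symm
      rw [Scheme.Hom.appTop, Scheme.Hom.app_eq_appLE]
      exact hm
    intro l
    have h2 : pullU (B.lift.act ▷ P) (le_whisker P B.lift.act (U := ⊤) (U' := ⊤) le_top) (β B.V P ⊤ zE) =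
        pullU (snd G B.V ▷ P) (le_whisker P (snd G B.V) (U := ⊤) (U' := ⊤) le_top) (β B.V P ⊤ zE) := by
      rw [hzE]
      exact sub_eq_zero.1 hδ
    rw [β_natural, β_natural] at h2
    have h3 := (β_bijective (Z := G ⊗ B.V) P ⊤ isCompact_univ (IsQuasiSeparated.of_quasiSeparatedSpace _)).1 h2
    have h4 := congrArg (fun w => BCField.co b w l) h3
    rw [co_map, co_map] at h4
    show B.lift.act.left.appTop (BCField.co b zE l) = (snd G B.V).left.appTop (BCField.co b zE l)
    rw [Scheme.Hom.appTop, Scheme.Hom.app_eq_appLE, Scheme.Hom.appTop, Scheme.Hom.app_eq_appLE]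
    exact h4
  obtain ⟨l, hl⟩ := exists_co_of_mem b zE (p := p) (hzE.symm ▸ hpE)
  have hinvl : B.IsInvSection (j * n) (BCField.co b zE l) := ⟨WtP.co b zE hwE l, hinvE l⟩
  refine ⟨j * n, BCField.co b zE l, ⟨_, Sections.isOpen_nonvanishing hinvl⟩, Nat.mul_pos hj hn, hinvl, rfl,
    isAffineOpen_of_mem_cert A (fun U U' y y' hy hy' => by
      obtain ⟨c, -, hc⟩ := B.atlas.linear U U' y y' hy hy'
      exact ⟨c, hc⟩) hinvl.1 (hJE l) rfl, ⟨(fst B.V P).left p, hl, by rw [hp]; exact hvx⟩, ?_⟩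
  rintro _ ⟨w, hw, rfl⟩
  haveI : UniversallyOpen (fst B.V P).left :=
    MorphismProperty.pullback_fst (P := @UniversallyOpen) _ _ inferInstance
  let M : (B.V ⊗ P).left.Opens := ⨆ g, (B.V ⊗ P).left.basicOpen (sg g)
  let O : B.V.left.Opens := ⟨(fst B.V P).left.base '' M, (fst B.V P).left.isOpenMap _ M.isOpen⟩
  have hsub : (B.V ⊗ P).left.basicOpen (β B.V P ⊤ zE) ≤ (fst B.V P).left ⁻¹ᵁ O := by
    refine le_trans ?_ (fun q hq => (⟨q, hq, rfl⟩ : (fst B.V P).left q ∈ O))
    intro q hq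
    rw [hzE] at hq
    by_contra hqM
    rw [Scheme.mem_basicOpen _ _ q (show q ∈ T from trivial), map_sum] at hq
    refine (IsLocalRing.mem_maximalIdeal _).1 (Ideal.sum_mem _ fun c _ => ?_) hq
    obtain ⟨g, rfl⟩ := Quotient.exists_rep c
    rw [map_pow]
    refine Ideal.pow_mem_of_mem _ ?_ _ hj
    rw [IsLocalRing.mem_maximalIdeal, mem_nonunits_iff, ← Scheme.mem_basicOpen]
    exact fun h => hqM (TopologicalSpace.Opens.mem_iSup.2 ⟨g, h⟩)
  obtain ⟨q, hq, hqw⟩ := co_supp b zE hsub l hw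
  obtain ⟨g, hg⟩ := TopologicalSpace.Opens.mem_iSup.1 hq
  rw [hbo] at hg
  refine ⟨((gr g : B.V ⊗ P ⟶ G ⊗ B.V) ≫ (G ◁ B.π)).left q, ?_, ?_⟩
  · rw [← Scheme.Hom.comp_apply, ← Over.comp_left, Category.assoc, whiskerLeft_snd, reassoc_of% gr_snd,
      Over.comp_left, Scheme.Hom.comp_apply, hqw]
  · rw [← Scheme.Hom.comp_apply, ← Over.comp_left, Category.assoc, ← B.lift_π, ← Category.assoc, Over.comp_left,
      Scheme.Hom.comp_apply]
    show B.π.left ((gr g ≫ B.lift.act).left q) ∈ U₀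
    rw [← SetLike.mem_coe, hU₀]
    exact ⟨_, hg, rfl⟩

end Groth.Agent.GIT36.IdComp
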