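import Groth.Agent.GIT36.IdComp.Points
import Groth.Agent.GIT36.BCField.Descend
import Groth.Agent.WC97.Reduced

/-!
Translates by points over an algebraically closed field; a function fixed by all of them is invariant.
-/

set_option autoImplicit false
set_option backward.isDefEq.respectTransparency.types false
set_option linter.style.haveILetI false
set_option linter.unusedSectionVars false
set_option maxHeartbeats 800000

universe u

open CategoryTheory CategoryTheory.Limits MonoidalCategory CartesianMonoidalCategory MonObj GrpObj AlgebraicGeometry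
open scoped TensorProduct
open Groth.Agent.GIT36.Sections Groth.Agent.GIT36.Proj Groth.Agent.GIT36.BCField Groth.Agent.GIT36.FinAction

noncomputable section

namespace Groth.Agent.GIT36.IdComp

variable {k : Type u} [Field k]

attribute [local instance] gU

section Trans

variable {G Z P : Over (Spec (CommRingCat.of k))} [GrpObj G] (b : AlgGrp.Action G Z)

/-- translation by a point -/
def trans (g : P ⟶ G) : Z ⊗ P ⟶ Z ⊗ P := lift (lift (snd Z P ≫ g) (fst Z P) ≫ b.act) (snd Z P)

theorem trans_comp (g h : P ⟶ G) : trans b g ≫ trans b h = trans b (h * g) := by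
  apply CartesianMonoidalCategory.hom_ext
  · simp only [trans, Category.assoc, lift_fst, comp_lift_assoc, lift_snd_assoc]
    rw [MonObj.comp_mul, AlgGrp79.mul_act']
  · simp [trans]

theorem trans_one : trans b (1 : P ⟶ G) = 𝟙 _ := by
  apply CartesianMonoidalCategory.hom_ext
  · simp only [trans, lift_fst, MonObj.comp_one, AlgGrp79.one_act', Category.id_comp]
  · simp [trans]

theorem isIso_trans (g : P ⟶ G) : IsIso (trans b g) :=
  ⟨trans b g⁻¹, by rw [trans_comp, inv_mul_cancel, trans_one], by rw [trans_comp, mul_inv_cancel, trans_one]⟩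

/-- the graph of a point -/
def gr (g : P ⟶ G) : Z ⊗ P ⟶ G ⊗ Z := lift (snd Z P ≫ g) (fst Z P)

theorem trans_fst (g : P ⟶ G) : trans b g ≫ fst Z P = gr g ≫ b.act := lift_fst _ _

theorem gr_snd (g : P ⟶ G) : (gr g : Z ⊗ P ⟶ G ⊗ Z) ≫ snd G Z = fst Z P := lift_snd _ _

end Trans

theorem β_natural_right (Z : Over (Spec (CommRingCat.of k))) {T T' : Over (Spec (CommRingCat.of k))} (h : T' ⟶ T)
    (U : Z.left.Opens) (e : (fst Z T').left ⁻¹ᵁ U ≤ (Z ◁ h).left ⁻¹ᵁ ((fst Z T).left ⁻¹ᵁ U))
    (z : Γ(Z.left, U) ⊗[k] Γ(T.left, ⊤)) :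
    pullU (Z ◁ h) e (β Z T U z) =
      β Z T' U ((pullU h (U := ⊤) (U' := ⊤) le_top).toLinearMap.lTensor _ z) := by
  induction z with
  | zero => simp only [map_zero]
  | tmul s c =>
    rw [LinearMap.lTensor_tmul, β_tmul, β_tmul, map_mul]
    refine congrArg₂ (· * ·) ?_ ?_
    · rw [pullU_comp _ _ (by rw [whiskerLeft_fst]), pullU_congr (whiskerLeft_fst Z h) _ le_rfl]
    · have e2 : (fst Z T').left ⁻¹ᵁ U ≤ (snd Z T' ≫ h).left ⁻¹ᵁ ⊤ := le_top
      rw [pullU_comp _ _ le_top, pullU_congr (whiskerLeft_snd Z h) _ e2]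
      exact (pullU_comp _ _ e2 c).symm
  | add x y hx hy => simp only [map_add, hx, hy]

variable {G P : Over (Spec (CommRingCat.of k))} [GrpObj G] [Smooth G.hom]
  {Ω : Type u} [Field Ω] [IsAlgClosed Ω] (eP : P.left ≅ Spec (CommRingCat.of Ω))
  {Z : Over (Spec (CommRingCat.of k))} [CompactSpace Z.left] [QuasiSeparatedSpace Z.left]

include eP in
/-- functions vanishing along the graphs of all points vanish -/
theorem eq_zero_of_graphs (δ : Γ(((G ⊗ Z) ⊗ P).left, ⊤))
    (h : ∀ g : P ⟶ G, (lift (gr g) (snd Z P) : Z ⊗ P ⟶ (G ⊗ Z) ⊗ P).left.appTop δ = 0) : δ = 0 := by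
  classical
  haveI : LocallyOfFiniteType G.hom := inferInstance
  haveI := jacobson_prod eP G
  haveI : IsAffine P.left := .of_isIso eP.hom
  haveI : AlgebraicGeometry.IsReduced (G ⊗ P).left := by
    haveI : Smooth (snd G P).left :=
      MorphismProperty.of_isPullback (P := @Smooth) (IsPullback.of_hasPullback G.hom P.hom) inferInstance
    haveI : Smooth ((snd G P).left ≫ eP.hom) := inferInstance
    exact WC97.isReduced_of_smooth ((snd G P).left ≫ eP.hom)
  let α : Z ⊗ (G ⊗ P) ⟶ (G ⊗ Z) ⊗ P :=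
    lift (lift (snd Z (G ⊗ P) ≫ fst G P) (fst Z (G ⊗ P))) (snd Z (G ⊗ P) ≫ snd G P)
  haveI : IsIso α := by
    refine ⟨lift (fst (G ⊗ Z) P ≫ snd G Z) (lift (fst (G ⊗ Z) P ≫ fst G Z) (snd (G ⊗ Z) P)), ?_, ?_⟩
    · ext <;> simp [α]
    · ext <;> simp [α]
  let δ' := α.left.appTop δ
  suffices hδ' : δ' = 0 by
    have : δ = (inv α).left.appTop δ' := by
      show δ = (α.left.appTop ≫ (inv α).left.appTop) δ
      rw [← Scheme.Hom.comp_appTop, ← Over.comp_left, IsIso.inv_hom_id]
      simp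
    rw [this, hδ', map_zero]
  refine eq_of_locally _ _ fun p _ => ?_
  obtain ⟨O, hOa, hpO, -⟩ := exists_affine_le (x := (snd Z (G ⊗ P)).left p) (O := (⊤ : (G ⊗ P).left.Opens)) trivial
  refine ⟨(snd Z (G ⊗ P)).left ⁻¹ᵁ O, le_top, hpO, ?_⟩
  rw [rs_zero]
  haveI : IsOpenImmersion (Z ◁ openIncl O).left :=
    MorphismProperty.of_isPullback (P := @IsOpenImmersion) (Quot.isPullback_whiskerLeft_left Z (openIncl O)).flip
      inferInstance
  have hrange : ((snd Z (G ⊗ P)).left ⁻¹ᵁ O : Set (Z ⊗ (G ⊗ P)).left) = Set.range (Z ◁ openIncl O).left.base := by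
    ext q
    constructor
    · intro hq
      obtain ⟨w, hw, -⟩ := Scheme.exists_preimage_of_isPullback (Quot.isPullback_whiskerLeft_left Z (openIncl O)) q
        ⟨(snd Z (G ⊗ P)).left q, hq⟩ rfl
      exact ⟨w, hw⟩
    · rintro ⟨w, rfl⟩
      show ((Z ◁ openIncl O) ≫ snd Z (G ⊗ P)).left w ∈ O
      rw [whiskerLeft_snd]
      exact ((snd Z (openObj O)).left w).2
  refine SSRed.rs_eq_zero_of_openImmersion (Z ◁ openIncl O).left hrange ?_
  let T := openObj O
  haveI : IsAffine T.left := hOa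
  haveI : AlgebraicGeometry.IsReduced T.left := isReduced_of_isOpenImmersion O.ι
  obtain ⟨z, hz⟩ := (β_bijective (Z := Z) T ⊤ isCompact_univ (IsQuasiSeparated.of_quasiSeparatedSpace _)).2
    ((Z ◁ openIncl O).left.appTop δ')
  suffices z = 0 by
    rw [← hz, this, map_zero]
    rfl
  let c := Module.Free.chooseBasis k Γ(Z.left, ⊤)
  refine (TensorProduct.comm k _ _).injective (co_inj c fun l => ?_)
  rw [map_zero, map_zero, Finsupp.zero_apply]
  let r := co c (TensorProduct.comm k _ _ z) l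
  show r = 0
  refine (basicOpen_eq_bot_iff r).1 (TopologicalSpace.Opens.ext ?_)
  rw [TopologicalSpace.Opens.coe_bot]
  refine Set.eq_empty_iff_forall_notMem.2 fun q hq => ?_
  haveI : JacobsonSpace T.left := JacobsonSpace.of_isOpenEmbedding O.ι.isOpenEmbedding
  obtain ⟨q', hq', hq'c⟩ := nonempty_inter_closedPoints (Z := (T.left.basicOpen r : Set T.left)) ⟨q, hq⟩
    (T.left.basicOpen r).isOpen.isLocallyClosed
  have hq'G : IsClosed ({O.ι q'} : Set (G ⊗ P).left) := by
    have h2 : q' ∈ O.ι.base ⁻¹' closedPoints (G ⊗ P).left := by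
      rw [O.ι.isOpenEmbedding.preimage_closedPoints]
      exact hq'c
    exact h2
  obtain ⟨g, hg⟩ := exists_section eP hq'G
  haveI := subsingleton eP
  obtain ⟨s, hs⟩ : ∃ s : P ⟶ T, s ≫ openIncl O = sct g := by
    have hrange : Set.range (sct g).left.base ⊆ Set.range O.ι.base := by
      rintro _ ⟨t, rfl⟩
      rw [eq_pt₀ eP t]
      exact ⟨q', hg.symm⟩
    refine ⟨Over.homMk (IsOpenImmersion.lift O.ι (sct g).left hrange) ?_,
      Over.OverMorphism.ext (IsOpenImmersion.lift_fac _ _ _)⟩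
    show IsOpenImmersion.lift O.ι (sct g).left hrange ≫ O.ι ≫ (G ⊗ P).hom = _
    rw [IsOpenImmersion.lift_fac_assoc, Over.w (sct g)]
  have hsq : s.left (pt₀ eP) = q' := O.ι.isOpenEmbedding.injective (by
    rw [← hg, ← hs]
    rfl)
  have hzero : pullU s (U := ⊤) (U' := ⊤) le_top r = 0 := by
    have e1 : (Z ◁ s) ≫ (Z ◁ openIncl O) ≫ α = lift (gr g) (snd Z P) := by
      rw [← MonoidalCategory.whiskerLeft_comp_assoc, hs]
      apply CartesianMonoidalCategory.hom_ext
      · apply CartesianMonoidalCategory.hom_ext <;> simp [α, gr, sct]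
      · simp [α, sct]
    have h1 : pullU (Z ◁ s) (U := (fst Z T).left ⁻¹ᵁ ⊤) (U' := (fst Z P).left ⁻¹ᵁ ⊤) le_top (β Z T ⊤ z) = 0 := by
      rw [hz]
      have h0 := h g
      rw [← e1, Over.comp_left, Over.comp_left, Scheme.Hom.comp_appTop, Scheme.Hom.comp_appTop] at h0
      simp only [CommRingCat.comp_apply] at h0
      rw [pullU_apply]
      refine Eq.trans ?_ h0
      simp only [δ', Scheme.Hom.appTop, Scheme.Hom.app_eq_appLE]
      rfl
    rw [β_natural_right] at h1
    have h2 := (β_bijective (Z := Z) P ⊤ isCompact_univ (IsQuasiSeparated.of_quasiSeparatedSpace _)).1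
      (h1.trans (map_zero _).symm)
    have h3 := congrArg (fun w => co c (TensorProduct.comm k _ _ w) l) h2
    simp only [map_zero, Finsupp.zero_apply] at h3
    rw [← h3]
    show _ = co c ((TensorProduct.comm k Γ(Z.left, ⊤) Γ(P.left, ⊤))
      (LinearMap.lTensor _ (pullU s (U := ⊤) (U' := ⊤) le_top).toLinearMap z)) l
    rw [show (TensorProduct.comm k Γ(Z.left, ⊤) Γ(P.left, ⊤))
        (LinearMap.lTensor _ (pullU s (U := ⊤) (U' := ⊤) le_top).toLinearMap z) =
      LinearMap.rTensor _ (pullU s (U := ⊤) (U' := ⊤) le_top).toLinearMap (TensorProduct.comm k _ _ z) from by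
        rw [LinearMap.lTensor_def, LinearMap.rTensor_def, TensorProduct.map_comm], co_map]
    rfl
  have hmem : pt₀ eP ∈ s.left ⁻¹ᵁ T.left.basicOpen r := by
    show s.left (pt₀ eP) ∈ T.left.basicOpen r
    rw [hsq]
    exact hq'
  rw [Scheme.preimage_basicOpen, Scheme.Hom.app_eq_appLE,
    show s.left.appLE ⊤ (s.left ⁻¹ᵁ ⊤) le_rfl r = 0 from hzero, Scheme.basicOpen_zero] at hmem
  exact hmem

end Groth.Agent.GIT36.IdComp
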